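import Cfsg.Prelude.Def_Local
import Cfsg.Prelude.Def_Transfer
import Cfsg.Prelude.Def_Classical
import Cfsg.Prelude.Def_Solvable

import Cfsg.Agent.S0824
import Cfsg.Agent.Lib.Components.Bender
import Cfsg.Agent.Lib.JTwoPattern.Local

/-!
From the hypotheses of the Hall–Janko statements to a `Setting`.
-/

set_option autoImplicit false
set_option linter.style.haveILetI false
open Cfsg

namespace Cfsg.Agent.Lib.JTwoPattern

open scoped commutatorElement

/-- `Ω⁻₄(2) ≅ A₅`. -/
lemma omega_minus_equiv : Nonempty (↥(Cfsg.Omega (ZMod 2) (Cfsg.quadFormMinus 1 (ZMod 2) 1 1)) ≃* ↥(alternatingGroup (Fin 5))) := by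
  obtain ⟨e⟩ := S0824.result (F := ZMod 2) (ZMod.card 2)
  have h : (commutator _).map e.toMonoidHom = alternatingGroup (Fin 5) := by
    rw [commutator_def, Subgroup.map_commutator, Subgroup.map_top_of_surjective _ e.surjective, ← commutator_def,
      alternatingGroup.commutator_perm_eq (by simp)]
  exact ⟨(e.subgroupMap _).trans (MulEquiv.subgroupCongr h)⟩


/-- The hypotheses of a group of Hall–Janko type give a setting. -/
lemma setting_of_type {G : Type*} [Group G] [Fintype G] (z : G) (hz : orderOf z = 2) (Q : Subgroup (Subgroup.centralizer ({z} : Set G))) [Q.Normal] (hF : Cfsg.generalizedFittingSubgroup (Subgroup.centralizer ({z} : Set G)) = Q) (hQ : Cfsg.IsExtraspecial 2 Q) (hcard : Nat.card Q = 2 ^ 5) (e : (Subgroup.centralizer ({z} : Set G)) ⧸ Q ≃* Cfsg.Omega (ZMod 2) (Cfsg.quadFormMinus 1 (ZMod 2) 1 1)) (hnwc : ∃ g : G, (∃ hq : g * z * g⁻¹ ∈ Subgroup.centralizer ({z} : Set G), (⟨g * z * g⁻¹, hq⟩ : Subgroup.centralizer ({z} : Set G)) ∈ Q) ∧ g * z * g⁻¹ ≠ z) :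
    Setting z (Q.map (Subgroup.centralizer ({z} : Set G)).subtype) := by
  have hz2 : z * z = 1 := by rw [← pow_two, ← hz, pow_orderOf_eq_one]
  have hz1 : z ≠ 1 := fun h => by rw [h, orderOf_one] at hz; omega
  have hmem : ∀ g, g ∈ (Subgroup.centralizer ({z} : Set G)) ↔ g * z = z * g := fun g => Subgroup.mem_centralizer_singleton_iff
  have hzC : z ∈ (Subgroup.centralizer ({z} : Set G)) := (hmem z).mpr rfl
  have hCQ : Subgroup.centralizer (Q : Set ↥(Subgroup.centralizer ({z} : Set G))) ≤ Q := by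
    have h := Components.centralizer_gfs_le (G := ↥(Subgroup.centralizer ({z} : Set G)))
    rw [hF] at h
    exact h
  obtain ⟨⟨-, -, hcommeq⟩, hcencard⟩ := hQ
  have hzQ : (⟨z, hzC⟩ : ↥(Subgroup.centralizer ({z} : Set G))) ∈ Q :=
    hCQ (Subgroup.mem_centralizer_iff.mpr fun g _ => Subtype.ext ((hmem (g : G)).mp g.2))
  have hcen : ∀ a : ↥Q, a ∈ Subgroup.center ↥Q → ((a : ↥(Subgroup.centralizer ({z} : Set G))) : G) = 1 ∨ ((a : ↥(Subgroup.centralizer ({z} : Set G))) : G) = z := by
    intro a ha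
    classical
    have hzc : (⟨⟨z, hzC⟩, hzQ⟩ : ↥Q) ∈ Subgroup.center ↥Q :=
      Subgroup.mem_center_iff.mpr fun g => Subtype.ext (Subtype.ext ((hmem _).mp (g : ↥(Subgroup.centralizer ({z} : Set G))).2))
    by_contra hne
    push Not at hne
    have h3 : ({1, ⟨_, hzc⟩, ⟨a, ha⟩} : Finset (Subgroup.center ↥Q)).card = 3 := by
      rw [Finset.card_insert_of_notMem, Finset.card_pair]
      · intro h
        exact hne.2 (congrArg (fun u : Subgroup.center ↥Q => (((u : ↥Q) : ↥(Subgroup.centralizer ({z} : Set G))) : G)) h).symm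
      · rw [Finset.mem_insert, Finset.mem_singleton]
        rintro (h | h)
        · exact hz1 (congrArg (fun u : Subgroup.center ↥Q => (((u : ↥Q) : ↥(Subgroup.centralizer ({z} : Set G))) : G)) h).symm
        · exact hne.1 (congrArg (fun u : Subgroup.center ↥Q => (((u : ↥Q) : ↥(Subgroup.centralizer ({z} : Set G))) : G)) h).symm
    have := Finset.card_le_univ ({1, ⟨_, hzc⟩, ⟨a, ha⟩} : Finset (Subgroup.center ↥Q))
    rw [h3, ← Nat.card_eq_fintype_card, hcencard] at this
    omega
  have hcom : ∀ a ∈ Q.map (Subgroup.centralizer ({z} : Set G)).subtype, ∀ b ∈ Q.map (Subgroup.centralizer ({z} : Set G)).subtype, a * b = b * a ∨ a * b = b * a * z := by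
    rintro _ ⟨a, ha, rfl⟩ _ ⟨b, hb, rfl⟩
    let x : ↥Q := ⟨a, ha⟩
    let y : ↥Q := ⟨b, hb⟩
    have hm : (y * x)⁻¹ * (x * y) ∈ Subgroup.center ↥Q := by
      rw [← hcommeq, show (y * x)⁻¹ * (x * y) = ⁅x⁻¹, y⁻¹⁆ by rw [commutatorElement_def]; group,
        commutator_eq_closure]
      exact Subgroup.subset_closure ⟨_, _, rfl⟩
    rcases hcen _ hm with h | h
    · left
      exact (inv_mul_eq_one.mp (show ((b : G) * (a : G))⁻¹ * ((a : G) * (b : G)) = 1 from h)).symm
    · right
      exact inv_mul_eq_iff_eq_mul.mp (show ((b : G) * (a : G))⁻¹ * ((a : G) * (b : G)) = z from h)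
  have hcen' : ∀ a ∈ Q.map (Subgroup.centralizer ({z} : Set G)).subtype, (∀ b ∈ Q.map (Subgroup.centralizer ({z} : Set G)).subtype, a * b = b * a) → a = 1 ∨ a = z := by
    rintro _ ⟨a, ha, rfl⟩ h
    exact hcen ⟨a, ha⟩ (Subgroup.mem_center_iff.mpr fun g =>
      Subtype.ext (Subtype.ext (h _ ⟨g, g.2, rfl⟩).symm))
  obtain ⟨eA⟩ := omega_minus_equiv
  let π : ↥(Subgroup.centralizer ({z} : Set G)) →* ↥(alternatingGroup (Fin 5)) := (e.trans eA).toMonoidHom.comp (QuotientGroup.mk' Q)
  refine
    ⟨{ zQ := ⟨⟨z, hzC⟩, hzQ, rfl⟩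
       z2 := hz2
       z1 := hz1
       zc := fun g hg => (hmem g).mp (Subgroup.map_subtype_le Q hg)
       zK := fun k hk => (hmem k).mp hk
       norm := by
         rintro g hg _ ⟨a, ha, rfl⟩
         exact ⟨_, Subgroup.Normal.conj_mem inferInstance a ha ⟨g, hg⟩, rfl⟩
       cen := hcen'
       sq := by
         intro a ha
         refine hcen' _ (mul_mem ha ha) fun b hb => ?_
         rcases hcom a ha b hb with h | h
         · exact ((show Commute a b from h).mul_left h).eq
         · calc a * a * b = a * (a * b) := mul_assoc _ _ _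
             _ = a * (b * a * z) := by rw [h]
             _ = a * b * (a * z) := by group
             _ = b * a * z * (a * z) := by rw [h]
             _ = b * a * (z * a) * z := by group
             _ = b * a * (a * z) * z := by rw [(hmem a).mp (Subgroup.map_subtype_le Q ha)]
             _ = b * (a * a) * (z * z) := by group
             _ = b * (a * a) := by rw [hz2, mul_one]
       com := hcom
       card := by
         rw [Nat.card_congr (Subgroup.equivMapOfInjective _ _ (Subgroup.centralizer ({z} : Set G)).subtype_injective).toEquiv.symm, hcard]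
         norm_num
       quot := by
         refine ⟨π, (e.trans eA).surjective.comp (QuotientGroup.mk'_surjective Q), fun g => ?_⟩
         show (e.trans eA) (QuotientGroup.mk' Q g) = 1 ↔ _
         rw [MulEquiv.map_eq_one_iff, QuotientGroup.mk'_apply, QuotientGroup.eq_one_iff]
         exact (Subgroup.mem_map_iff_mem (Subgroup.centralizer ({z} : Set G)).subtype_injective).symm
       cq := by
         intro g hg hgc
         have h := hCQ (show (⟨g, hg⟩ : ↥(Subgroup.centralizer ({z} : Set G))) ∈ Subgroup.centralizer (Q : Set ↥(Subgroup.centralizer ({z} : Set G))) from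
           Subgroup.mem_centralizer_iff.mpr fun q hq => Subtype.ext (hgc _ ⟨q, hq, rfl⟩).symm)
         exact ⟨_, h, rfl⟩ },
      Subgroup.map_subtype_le Q, ?_⟩
  obtain ⟨g, ⟨hq, hqQ⟩, hne⟩ := hnwc
  exact ⟨g, ⟨_, hqQ, rfl⟩, hne⟩

end Cfsg.Agent.Lib.JTwoPattern
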